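import Cfsg.Agent.Lib.Grp.TwoSymFour.Model
import Cfsg.Agent.Lib.Classical.SLNormal
import Cfsg.Agent.Lib.Classical.GLDegree

/-!
Solvability of `S₄` and the order of `SL₃(2)`.
-/

set_option autoImplicit false
set_option maxRecDepth 100000

namespace Cfsg.Agent.Grp.TwoSymFour

theorem isSolvable_perm_four : Group.IsSolvable (Equiv.Perm (Fin 4)) := by
  refine (Group.isSolvable_iff_subgroup_quotient (alternatingGroup (Fin 4))).mpr ⟨?_, ?_⟩
  · have := alternatingGroup.characteristic_kleinFour (α := Fin 4) (by simp)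
    refine (Group.isSolvable_iff_subgroup_quotient
      (alternatingGroup.kleinFour (Fin 4) : Subgroup (alternatingGroup (Fin 4)))).mpr ⟨?_, ?_⟩
    · haveI : Fact (Nat.Prime 2) := ⟨Nat.prime_two⟩
      haveI := (IsPGroup.of_card (n := 2) (by
        rw [alternatingGroup.kleinFour_card_of_card_eq_four (α := Fin 4) (by simp)]; rfl) :
        IsPGroup 2 (alternatingGroup.kleinFour (Fin 4) : Subgroup (alternatingGroup (Fin 4)))).isNilpotent
      exact inferInstance
    · haveI : Fact (Nat.Prime 3) := ⟨Nat.prime_three⟩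
      haveI := (IsPGroup.of_card (n := 1) (by
        rw [← Subgroup.index_eq_card]
        have := Subgroup.card_mul_index (alternatingGroup.kleinFour (Fin 4) : Subgroup (alternatingGroup (Fin 4)))
        rw [alternatingGroup.kleinFour_card_of_card_eq_four (by simp), nat_card_alternatingGroup] at this
        simp [Nat.factorial] at this ⊢; omega) :
        IsPGroup 3 (alternatingGroup (Fin 4) ⧸
          (alternatingGroup.kleinFour (Fin 4) : Subgroup (alternatingGroup (Fin 4))))).isNilpotent
      exact inferInstance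
  · haveI : Fact (Nat.Prime 2) := ⟨Nat.prime_two⟩
    haveI := (IsPGroup.of_card (n := 1) (by
      rw [← Subgroup.index_eq_card, alternatingGroup.index_eq_two, pow_one]) :
      IsPGroup 2 (Equiv.Perm (Fin 4) ⧸ alternatingGroup (Fin 4))).isNilpotent
    exact inferInstance

theorem card_SL : Nat.card (Matrix.SpecialLinearGroup (Fin 3) (ZMod 2)) = 168 := by
  haveI : Fact (Nat.Prime 2) := ⟨Nat.prime_two⟩
  have h1 := Cfsg.Agent.Classical.natCard_GL_eq_SL_mul (F := ZMod 2) 3 (by norm_num)
  rw [Cfsg.Agent.Classical.GLDeg.natCard_GL (F := ZMod 2) (q := 2) (ZMod.card 2) 3,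
    Cfsg.Agent.Classical.natCard_units_field, ZMod.card] at h1
  norm_num [Cfsg.Agent.Classical.GLDeg.qf, Cfsg.Agent.Classical.GLDeg.qi, Finset.prod_range_succ, Finset.sum_range_succ, Nat.choose] at h1
  rw [Nat.card_eq_fintype_card]; omega

end Cfsg.Agent.Grp.TwoSymFour
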