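import Mathlib
import Cfsg.Agent.Lib.Alt.AutAlternating

/-!
Automorphisms of the alternating group of degree six fixing an element of order three.
-/

set_option autoImplicit false
set_option maxRecDepth 100000

namespace Cfsg.Agent.Grp.TwoSymFour

open Equiv Equiv.Perm

/-- A product of two disjoint three-cycles. -/
def y₆ : Perm (Fin 6) := swap 0 1 * swap 1 2 * (swap 3 4 * swap 4 5)

/-- An odd permutation centralizing `y₆`. -/
def w₆ : Perm (Fin 6) := swap 0 3 * swap 1 4 * swap 2 5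

theorem y₆_facts : y₆ ^ 3 = 1 ∧ y₆.support.card = 6 ∧ w₆ * y₆ = y₆ * w₆ ∧ sign w₆ = -1 := by
  decide +kernel

theorem eq_one_of_commute : ∀ σ : Perm (Fin 6),
    σ * (swap 0 1 * swap 1 2) = swap 0 1 * swap 1 2 * σ →
    σ * (swap 1 2 * swap 2 3 * swap 3 4 * swap 4 5) = swap 1 2 * swap 2 3 * swap 3 4 * swap 4 5 * σ →
    σ = 1 := by
  decide +kernel

theorem gen_mem : swap (0 : Fin 6) 1 * swap 1 2 ∈ alternatingGroup (Fin 6) ∧
    swap (1 : Fin 6) 2 * swap 2 3 * swap 3 4 * swap 4 5 ∈ alternatingGroup (Fin 6) := by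
  simp only [mem_alternatingGroup]
  decide +kernel

theorem centralizes_alternating {σ : Perm (Fin 6)}
    (h : ∀ x ∈ alternatingGroup (Fin 6), σ * x = x * σ) : σ = 1 :=
  eq_one_of_commute σ (h _ gen_mem.1) (h _ gen_mem.2)

theorem conjNormal_injective :
    Function.Injective (MulAut.conjNormal : Perm (Fin 6) →* MulAut (alternatingGroup (Fin 6))) := by
  rw [injective_iff_map_eq_one]
  intro σ hσ
  refine centralizes_alternating fun x hx => ?_
  have := congrArg (fun f : MulAut (alternatingGroup (Fin 6)) => ((f ⟨x, hx⟩ : alternatingGroup (Fin 6)) : Perm (Fin 6))) hσ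
  exact mul_inv_eq_iff_eq_mul.mp (by simpa using this)

theorem cycleType_eq {x : Perm (Fin 6)} (h3 : x ^ 3 = 1) (h1 : x ≠ 1) (hx : ¬ x.IsThreeCycle) :
    x.cycleType = Multiset.replicate 2 3 := by
  haveI : Fact (Nat.Prime 3) := ⟨Nat.prime_three⟩
  have h := cycleType_of_pow_prime_eq_one h3
  have hs := x.sum_cycleType_le
  rw [h, Multiset.sum_replicate, Fintype.card_fin, smul_eq_mul] at hs
  have hne : x.cycleType.card ≠ 0 := by
    rwa [ne_eq, Multiset.card_eq_zero, cycleType_eq_zero]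
  have hne1 : x.cycleType.card ≠ 1 := by
    intro h1'
    rw [h1', Multiset.replicate_one] at h
    exact hx h
  rw [h, show x.cycleType.card = 2 by omega]

theorem isConj_double {x : alternatingGroup (Fin 6)} (h3 : x ^ 3 = 1) (h1 : x ≠ 1)
    (hx : ¬ (x : Perm (Fin 6)).IsThreeCycle) :
    ∃ a : alternatingGroup (Fin 6), ((a * x * a⁻¹ : alternatingGroup (Fin 6)) : Perm (Fin 6)) = y₆ := by
  have hy1 : y₆ ≠ 1 := fun h => by
    have := y₆_facts.2.1
    rw [h] at this
    simp at this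
  have hy : ¬ y₆.IsThreeCycle := fun h => by
    have := h.card_support
    rw [y₆_facts.2.1] at this
    omega
  have hc : IsConj (x : Perm (Fin 6)) y₆ := by
    rw [isConj_iff_cycleType_eq, cycleType_eq ?_ ?_ hx, cycleType_eq y₆_facts.1 hy1 hy]
    · exact congrArg Subtype.val h3
    · exact fun h => h1 (Subtype.ext h)
  obtain ⟨σ, hσ⟩ := isConj_iff.mp hc
  rcases Int.units_eq_one_or (sign σ) with h | h
  · exact ⟨⟨σ, mem_alternatingGroup.mpr h⟩, hσ⟩
  · refine ⟨⟨w₆ * σ, mem_alternatingGroup.mpr (by rw [map_mul, h, y₆_facts.2.2.2]; rfl)⟩, ?_⟩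
    simp only [Subgroup.coe_mul, Subgroup.coe_inv, mul_inv_rev]
    calc w₆ * σ * (x : Perm (Fin 6)) * (σ⁻¹ * w₆⁻¹)
        = w₆ * (σ * (x : Perm (Fin 6)) * σ⁻¹) * w₆⁻¹ := by group
      _ = y₆ := by rw [hσ, y₆_facts.2.2.1, mul_inv_cancel_right]

/-- An automorphism fixing an element of order three maps three-cycles to three-cycles. -/
theorem threeCycle_image (θ : MulAut (alternatingGroup (Fin 6))) {y : alternatingGroup (Fin 6)}
    (hy3 : y ^ 3 = 1) (hy1 : y ≠ 1) (hθ : θ y = y) :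
    ∀ x : alternatingGroup (Fin 6), (x : Perm (Fin 6)).IsThreeCycle →
      (θ x : Perm (Fin 6)).IsThreeCycle := by
  intro x hx
  have hconj : ∀ a u : alternatingGroup (Fin 6), (u : Perm (Fin 6)).IsThreeCycle →
      ((a * u * a⁻¹ : alternatingGroup (Fin 6)) : Perm (Fin 6)).IsThreeCycle := by
    intro a u hu
    rw [Subgroup.coe_mul, Subgroup.coe_mul, Subgroup.coe_inv, IsThreeCycle, cycleType_conj]
    exact hu
  by_cases hy : (y : Perm (Fin 6)).IsThreeCycle
  · obtain ⟨a, ha⟩ := isConj_iff.mp (alternatingGroup.isThreeCycle_isConj (by simp) hy hx)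
    rw [← ha, map_mul, map_mul, hθ, map_inv]
    exact hconj _ _ hy
  · by_contra hθx
    have hx3 : x ^ 3 = 1 := Subtype.ext (by
      rw [SubgroupClass.coe_pow]; exact AltAut.cube_eq_one hx)
    have hx1 : x ≠ 1 := fun h => by
      rw [h, Subgroup.coe_one] at hx
      exact hx.ne_one rfl
    obtain ⟨a, ha⟩ := isConj_double (x := θ x) (by rw [← map_pow, hx3, map_one])
      (fun h => hx1 (θ.injective (h.trans (map_one θ).symm))) hθx
    obtain ⟨b, hb⟩ := isConj_double hy3 hy1 hy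
    have heq : θ x = (a⁻¹ * b) * y * (a⁻¹ * b)⁻¹ := by
      have e : a * θ x * a⁻¹ = b * y * b⁻¹ := Subtype.ext (ha.trans hb.symm)
      calc θ x = a⁻¹ * (a * θ x * a⁻¹) * a := by group
        _ = (a⁻¹ * b) * y * (a⁻¹ * b)⁻¹ := by rw [e]; group
    have hx' : x = θ.symm (a⁻¹ * b) * y * (θ.symm (a⁻¹ * b))⁻¹ := by
      apply θ.injective
      rw [map_mul, map_mul, map_inv, MulEquiv.apply_symm_apply, hθ, heq]
    rw [hx'] at hx
    have := hconj (θ.symm (a⁻¹ * b))⁻¹ _ hx
    apply hy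
    convert this using 2
    group

end Cfsg.Agent.Grp.TwoSymFour
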