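import Cfsg.Agent.Lib.Grp.TwoSymFour.Kernel
import Cfsg.Agent.Lib.Grp.ConjPSolvable
import Cfsg.Agent.Lib.Grp.TwoSymFour.AltSix

/-!
The possible orders of `G` and the identification with the symmetric group of degree six.
-/

set_option autoImplicit false

namespace Cfsg.Agent.Grp.TwoSymFour

open Subgroup

variable {G : Type*} [Group G] [Finite G] (c : Config G) {K : Subgroup G}

namespace Config

theorem card_eq (hK : K.index = 2) : Nat.card G = 2 * Nat.card K := by
  rw [← Subgroup.card_mul_index K, hK, mul_comm]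

include c in
theorem le_card_K (hK : K.index = 2) : 24 ≤ Nat.card K := by
  have h1 := Subgroup.card_le_of_le (show c.C ≤ ⊤ from le_top)
  rw [c.card_C, Subgroup.card_top, card_eq hK] at h1
  omega

omit [Finite G] in
theorem tau_mul_mem (hK : K.index = 2) (htK : c.t ∉ K) {g : G} (hg : g ∉ K) : c.t * g ∈ K :=
  (Subgroup.mul_mem_iff_of_index_two hK).mpr (iff_of_false htK hg)

/-- The centralizer of `z` in `K` is dihedral of order eight. -/
theorem centralizer_dihedral (hK : K.index = 2) (htK : c.t ∉ K) (hzK : c.z ∈ K) :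
    Nonempty (↥(Subgroup.centralizer ({⟨c.z, hzK⟩} : Set K)) ≃* DihedralGroup 4) := by
  set D := Subgroup.centralizer ({⟨c.z, hzK⟩} : Set K) with hD
  have hS : ∀ x : D, ((x : K) : G) ∈ c.S := by
    intro x
    rw [← c.centralizer_z]
    exact mem_centralizer_singleton_iff.mpr
      (congrArg Subtype.val (mem_centralizer_singleton_iff.mp x.2))
  let f : D →* M := c.e.toMonoidHom.comp
    ((K.subtype.comp D.subtype).codRestrict c.C fun x => (hS x).1)
  have hf : ∀ x : D, c.ι (f x) = ((x : K) : G) := fun x => by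
    simp only [f, ι, MonoidHom.comp_apply, MulEquiv.coe_toMonoidHom, MulEquiv.symm_apply_apply]
    rfl
  have hfz : ∀ x : D, (f x).2 * z₀.2 = z₀.2 * (f x).2 := fun x => by
    obtain ⟨m, hm, hm'⟩ := c.mem_S.mp (hS x)
    rw [show f x = m from c.ι_injective ((hf x).trans hm'.symm)]
    exact congrArg Prod.snd hm
  let g : D →* dihedralHom.range := ((MonoidHom.snd _ _).comp f).codRestrict _ fun x =>
    dihedralHom_range _ (hfz x)
  have hg : Function.Bijective g := by
    constructor
    · rw [injective_iff_map_eq_one]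
      intro x hx
      have h2 : (f x).2 = 1 := congrArg Subtype.val hx
      rcases snd_eq_one _ h2 with h | h
      · exact Subtype.ext (Subtype.ext (by rw [← hf, h, map_one]; rfl))
      · exfalso
        apply htK
        rw [← c.ι_tau, ← h, hf]
        exact (x : K).2
    · rintro ⟨σ, d, rfl⟩
      set m : M := (1, dihedralHom d) with hm
      have hmz : m * z₀ = z₀ * m := Prod.ext rfl (dihedralHom_comm d)
      have key : ∀ (n : M), n.2 = m.2 → c.ι n ∈ K → n * z₀ = z₀ * n →
          ∃ x : D, g x = ⟨dihedralHom d, d, rfl⟩ := by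
        intro n hn hnK hnz
        refine ⟨⟨⟨c.ι n, hnK⟩, mem_centralizer_singleton_iff.mpr
          (Subtype.ext (c.comm_iff.mpr hnz))⟩, Subtype.ext ?_⟩
        have := c.ι_injective (hf ⟨⟨c.ι n, hnK⟩, mem_centralizer_singleton_iff.mpr
          (Subtype.ext (c.comm_iff.mpr hnz))⟩)
        show (f _).2 = dihedralHom d
        rw [this, hn]
      by_cases h : c.ι m ∈ K
      · exact key m rfl h hmz
      · refine key (τ * m) ?_ ?_ ?_
        · show (1 : Equiv.Perm (Fin 4)) * m.2 = m.2
          rw [one_mul]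
        · rw [map_mul, c.ι_tau]; exact c.tau_mul_mem hK htK h
        · rw [mul_assoc, hmz, ← mul_assoc, tau_comm, mul_assoc]
  exact ⟨(MulEquiv.ofBijective g hg).trans (MonoidHom.ofInjective dihedralHom_injective).symm⟩

include c in
theorem oddCore_K (hK : K.index = 2) : Cfsg.oddCore K = ⊥ := by
  haveI := Subgroup.normal_of_index_eq_two hK
  haveI : (Cfsg.pPrimeCore 2 K).Characteristic := ConjPSolvable.pPrimeCore_char K 2
  haveI hN : ((Cfsg.pPrimeCore 2 K).map K.subtype).Normal := inferInstance
  have hle : (Cfsg.pPrimeCore 2 K).map K.subtype ≤ Cfsg.pPrimeCore 2 G := by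
    refine le_pPrimeCore hN ?_
    rw [Subgroup.card_map_of_injective K.subtype_injective]
    exact pPrimeCore_coprime
  rw [show Cfsg.pPrimeCore 2 G = ⊥ from c.oddCore_eq_bot, le_bot_iff,
    Subgroup.map_eq_bot_iff_of_injective _ K.subtype_injective] at hle
  exact hle

theorem eq_top_of_card (h : Nat.card G = 48) : c.C = ⊤ :=
  Subgroup.eq_top_of_card_eq _ (c.card_C.trans h.symm)

theorem ne_top_of_card (h : Nat.card G ≠ 48) : c.C ≠ ⊤ := fun hC => h (by
  rw [← c.card_C, hC, Subgroup.card_top])

include c in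
theorem card_ne_240 : Nat.card G ≠ 240 := by
  intro h
  classical
  haveI := Fintype.ofFinite (G ⧸ c.C)
  have hidx : c.C.index = 5 := by
    have := Subgroup.card_mul_index c.C
    rw [c.card_C] at this
    omega
  have hcore : c.C.normalCore = ⊥ := by
    by_contra hne
    exact c.ne_top_of_card (by omega) (c.eq_top_of_normal_le c.C.normalCore_le hne)
  have hinj : Function.Injective (MulAction.toPermHom G (G ⧸ c.C)) := by
    rw [← MonoidHom.ker_eq_bot_iff, ← Subgroup.normalCore_eq_ker, hcore]
  have hle := Nat.card_le_card_of_injective _ hinj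
  rw [Nat.card_perm, ← Subgroup.index_eq_card, hidx, h] at hle
  simp [Nat.factorial] at hle

include c in
theorem card_ne_336 : Nat.card G ≠ 336 := by
  intro h
  classical
  have hne := c.ne_top_of_card (by omega : Nat.card G ≠ 48)
  haveI := Fintype.ofFinite (G ⧸ c.C)
  have hidx : c.C.index = 7 := by
    have := Subgroup.card_mul_index c.C
    rw [c.card_C] at this
    omega
  by_cases hex : ∃ g : G, g * c.t * g⁻¹ ∈ c.C ∧ g * c.t * g⁻¹ ≠ c.t
  · -- all conjugates lie in `C(t)`
    obtain ⟨g, hgC, hgne⟩ := hex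
    obtain ⟨m, hm, hm2, hm1⟩ := c.ι_involution hgC (by
      rw [← MulAut.conj_apply, MulEquiv.orderOf_eq, c.ht])
    have hty : IsConj c.t (c.ι m) := isConj_iff.mpr ⟨g, hm.symm⟩
    obtain ⟨r, hr6, hrτ, hr⟩ : ∃ r : M, (Finset.univ.image fun a : M => a * r * a⁻¹).card = 6 ∧
        r ≠ τ ∧ IsConj c.t (c.ι r) := by
      rcases involution_cases m hm2 hm1 with hτ | ⟨a, hz | htz | hf | htf⟩
      · exact absurd (by rw [← hm, hτ, c.ι_tau]) hgne
      · exact absurd (hty.trans (c.isConj_ι ⟨a, hz⟩)) c.not_conj_t_z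
      · exact absurd (hty.trans (c.isConj_ι ⟨a, htz⟩)) c.not_conj_t_tz
      · exact ⟨f₀, card_f_class, f_ne_tau.1, hty.trans (c.isConj_ι ⟨a, hf⟩)⟩
      · exact ⟨τ * f₀, card_tf_class, f_ne_tau.2, hty.trans (c.isConj_ι ⟨a, htf⟩)⟩
    set F : G ⧸ c.C → G := Quotient.lift (fun x : G => x * c.t * x⁻¹) (by
      intro a b hab
      have hmem := c.mem_C.mp (QuotientGroup.leftRel_apply.mp hab)
      calc a * c.t * a⁻¹ = a * (c.t * (a⁻¹ * b)) * b⁻¹ := by group
        _ = a * ((a⁻¹ * b) * c.t) * b⁻¹ := by rw [hmem]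
        _ = b * c.t * b⁻¹ := by group) with hF
    set X : Finset G := Finset.univ.image F with hX
    have hXcard : X.card ≤ 7 := Finset.card_image_le.trans (by
      rw [Finset.card_univ, ← Nat.card_eq_fintype_card, ← Subgroup.index_eq_card, hidx])
    have hXmem : ∀ x : G, x * c.t * x⁻¹ ∈ X := fun x =>
      Finset.mem_image.mpr ⟨QuotientGroup.mk x, Finset.mem_univ _, rfl⟩
    set O : Finset M := Finset.univ.image fun a : M => a * r * a⁻¹ with hO
    have hτO : τ ∉ O := by
      intro hmem
      obtain ⟨a, -, ha⟩ := Finset.mem_image.mp hmem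
      exact hrτ (by
        calc r = a⁻¹ * (a * r * a⁻¹) * a := by group
          _ = τ := by rw [ha, mul_assoc, tau_comm, inv_mul_cancel_left])
    set Y : Finset G := (insert τ O).image c.ι with hY
    have hYX : Y ⊆ X := by
      intro y hy
      obtain ⟨n, hn, rfl⟩ := Finset.mem_image.mp hy
      rcases Finset.mem_insert.mp hn with rfl | hn
      · rw [c.ι_tau]; simpa using hXmem 1
      · obtain ⟨a, -, rfl⟩ := Finset.mem_image.mp hn
        obtain ⟨x, hx⟩ := isConj_iff.mp (hr.trans (c.isConj_ι ⟨a, rfl⟩))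
        exact hx ▸ hXmem x
    have hYcard : Y.card = 7 := by
      rw [hY, Finset.card_image_of_injective _ c.ι_injective, Finset.card_insert_of_notMem hτO,
        hO, hr6]
    have hall : ∀ x : G, x * c.t * x⁻¹ ∈ c.C := by
      intro x
      have := hXmem x
      rw [← Finset.eq_of_subset_of_card_le hYX (by omega)] at this
      obtain ⟨n, -, hn⟩ := Finset.mem_image.mp this
      exact hn ▸ c.ι_mem n
    refine hne (c.eq_top_of_normal_le (N := Subgroup.normalClosure {c.t}) ?_ ?_)
    · rw [Subgroup.normalClosure, Subgroup.closure_le]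
      intro y hy
      simp only [Group.conjugatesOfSet, Set.mem_singleton_iff, Set.iUnion_iUnion_eq_left] at hy
      obtain ⟨x, hx⟩ := isConj_iff.mp hy
      exact hx ▸ hall x
    · intro hb
      have ht1 : c.t = 1 := by
        have := Subgroup.subset_normalClosure (s := {c.t}) (Set.mem_singleton c.t)
        rwa [hb] at this
      have := c.ht
      rw [ht1, orderOf_one] at this
      omega
  · push Not at hex
    -- `z` is an even permutation with exactly one fixed point
    set ψ : G →* ℤˣ := Equiv.Perm.sign.comp (MulAction.toPermHom G (G ⧸ c.C)) with hψ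
    have hz1 : ψ c.z = 1 := by
      obtain ⟨a, -, b, -, hab⟩ := commutator_z
      rw [Config.z, ← hab]
      simp only [map_mul, map_inv]
      rw [mul_comm (ψ (c.ι a)), mul_inv_cancel_right, mul_inv_cancel]
    have hσ : (MulAction.toPermHom G (G ⧸ c.C) c.z) ^ 2 = 1 := by
      rw [pow_two, ← map_mul, Config.z, ← map_mul, z_mul_self.1, map_one, map_one]
    have hzt : c.z * c.t = c.t * c.z := c.mem_C.mp (c.ι_mem z₀)
    have hfix : Fintype.card (Function.fixedPoints (MulAction.toPermHom G (G ⧸ c.C) c.z)) = 1 := by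
      rw [Fintype.card_eq_one_iff]
      refine ⟨⟨QuotientGroup.mk 1, ?_⟩, ?_⟩
      · show c.z • (QuotientGroup.mk 1 : G ⧸ c.C) = QuotientGroup.mk 1
        rw [MulAction.Quotient.smul_mk, eq_comm, QuotientGroup.eq, smul_eq_mul, mul_one, inv_one,
          one_mul]
        exact c.ι_mem z₀
      · rintro ⟨q, hq⟩
        obtain ⟨x, rfl⟩ := QuotientGroup.mk_surjective q
        apply Subtype.ext
        have hq' : c.z • (QuotientGroup.mk x : G ⧸ c.C) = QuotientGroup.mk x := hq
        rw [MulAction.Quotient.smul_mk, eq_comm, QuotientGroup.eq, smul_eq_mul, ← mul_assoc] at hq'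
        have hxz : x * c.t * x⁻¹ ∈ Subgroup.centralizer ({c.z} : Set G) := by
          rw [mem_centralizer_singleton_iff]
          have := c.mem_C.mp hq'
          calc x * c.t * x⁻¹ * c.z = x * (c.t * (x⁻¹ * c.z * x)) * x⁻¹ := by group
            _ = x * ((x⁻¹ * c.z * x) * c.t) * x⁻¹ := by rw [this]
            _ = c.z * (x * c.t * x⁻¹) := by group
        rw [c.centralizer_z] at hxz
        have hxC := c.mem_C.mpr (mul_inv_eq_iff_eq_mul.mp (hex x hxz.1))
        show (QuotientGroup.mk x : G ⧸ c.C) = QuotientGroup.mk 1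
        rw [QuotientGroup.eq, mul_one]
        exact inv_mem hxC
    rw [hψ, MonoidHom.comp_apply, Equiv.Perm.sign_of_pow_two_eq_one hσ, hfix,
      ← Nat.card_eq_fintype_card, ← Subgroup.index_eq_card, hidx] at hz1
    exact absurd hz1 (by decide)

/-- The case of the alternating group of degree six. -/
theorem mulEquiv_perm_six (hK : K.index = 2) (htK : c.t ∉ K) (hzK : c.z ∈ K)
    (α : K ≃* alternatingGroup (Fin 6)) : Nonempty (G ≃* Equiv.Perm (Fin 6)) := by
  classical
  haveI := Subgroup.normal_of_index_eq_two hK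
  have hK360 : Nat.card K = 360 := by
    rw [Nat.card_congr α.toEquiv, nat_card_alternatingGroup, Nat.card_fin]; rfl
  have hG : Nat.card G = 720 := by rw [card_eq hK, hK360]
  let θ : G →* MulAut (alternatingGroup (Fin 6)) :=
    (MulAut.congr α).toMonoidHom.comp (MulAut.conjNormal (H := K))
  have hθ : ∀ g x, θ g x = α (MulAut.conjNormal g (α.symm x)) := fun g x => rfl
  -- an element of order three centralized by `t`
  obtain ⟨m, hm3, hm1⟩ := order_three
  have hyK : c.ι m ∈ K := by
    have h2 := Subgroup.mul_self_mem_of_index_two hK (c.ι m * c.ι m)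
    have he : c.ι m * c.ι m * (c.ι m * c.ι m) = c.ι m := by
      rw [← map_mul, ← map_mul, ← mul_assoc, hm3, one_mul]
    rwa [he] at h2
  set y := α ⟨c.ι m, hyK⟩ with hy
  have hy3 : y ^ 3 = 1 := by
    rw [hy, ← map_pow, MulEquiv.map_eq_one_iff]
    apply Subtype.ext
    rw [SubgroupClass.coe_pow, Subgroup.coe_one, pow_three', ← map_mul, ← map_mul, hm3, map_one]
  have hy1 : y ≠ 1 := by
    rw [hy, ne_eq, MulEquiv.map_eq_one_iff]
    exact fun h => hm1 (c.ι_injective ((congrArg Subtype.val h).trans (map_one c.ι).symm))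
  have hty : θ c.t y = y := by
    rw [hθ, hy, MulEquiv.symm_apply_apply]
    refine congrArg α (Subtype.ext ?_)
    rw [MulAut.conjNormal_apply]
    exact mul_inv_eq_iff_eq_mul.mpr (c.mem_C.mp (c.ι_mem m)).symm
  have hKθ : ∀ k : K, θ (k : G) = MulAut.conj (α k) := by
    intro k
    ext x
    rw [hθ, MulAut.conj_apply]
    have : MulAut.conjNormal (k : G) (α.symm x) = k * α.symm x * k⁻¹ := Subtype.ext (by simp)
    rw [this, map_mul, map_mul, map_inv, MulEquiv.apply_symm_apply]
  have hpres : ∀ (g : G) (x : alternatingGroup (Fin 6)), (x : Equiv.Perm (Fin 6)).IsThreeCycle →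
      (θ g x : Equiv.Perm (Fin 6)).IsThreeCycle := by
    have hin : ∀ (k : K) (x : alternatingGroup (Fin 6)), (x : Equiv.Perm (Fin 6)).IsThreeCycle →
        (θ (k : G) x : Equiv.Perm (Fin 6)).IsThreeCycle := by
      intro k x hx
      rw [hKθ, MulAut.conj_apply, Subgroup.coe_mul, Subgroup.coe_mul, Subgroup.coe_inv,
        Equiv.Perm.IsThreeCycle, Equiv.Perm.cycleType_conj]
      exact hx
    intro g x hx
    by_cases hg : g ∈ K
    · exact hin ⟨g, hg⟩ x hx
    · have e : g = c.t * (c.t * g) := by rw [← mul_assoc, sq_of_order c.ht, one_mul]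
      rw [e, map_mul, MulAut.mul_apply]
      exact threeCycle_image (θ c.t) hy3 hy1 hty _ (hin ⟨_, c.tau_mul_mem hK htK hg⟩ x hx)
  have hrange : ∀ g, θ g ∈ (MulAut.conjNormal :
      Equiv.Perm (Fin 6) →* MulAut (alternatingGroup (Fin 6))).range := fun g =>
    AltAut.exists_perm_of_threeCycle (by simp) (θ g) (hpres g)
  let σ : G →* Equiv.Perm (Fin 6) :=
    (MonoidHom.ofInjective conjNormal_injective).symm.toMonoidHom.comp (θ.codRestrict _ hrange)
  have hker : θ.ker = ⊥ := by
    by_contra hne
    refine c.ne_top_of_card (by omega) (c.eq_top_of_normal_le (N := θ.ker) ?_ hne)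
    intro g hg
    have hfix : ∀ k : K, g * (k : G) * g⁻¹ = k := by
      intro k
      have := hθ g (α k)
      rw [MonoidHom.mem_ker.mp hg, MulAut.one_apply, MulEquiv.symm_apply_apply] at this
      have h := congrArg Subtype.val (α.injective this)
      rw [MulAut.conjNormal_apply] at h
      exact h.symm
    have hgz : g ∈ Subgroup.centralizer ({c.z} : Set G) :=
      mem_centralizer_singleton_iff.mpr (mul_inv_eq_iff_eq_mul.mp (hfix ⟨c.z, hzK⟩))
    rw [c.centralizer_z] at hgz
    exact hgz.1
  have hσ : Function.Injective σ := by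
    rw [injective_iff_map_eq_one]
    intro g hg
    have h1 : θ.codRestrict _ hrange g = 1 :=
      (MonoidHom.ofInjective conjNormal_injective).symm.injective
        (hg.trans (map_one _).symm)
    exact (MonoidHom.ker_eq_bot_iff θ).mp hker
      ((congrArg Subtype.val h1).trans (map_one θ).symm)
  exact ⟨MulEquiv.ofBijective σ (hσ.bijective_of_nat_card_le (by
    rw [hG, Nat.card_perm, Nat.card_fin]; decide))⟩

end Config

end Cfsg.Agent.Grp.TwoSymFour
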