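import Cfsg.Agent.Lib.Grp.TwoSymFour.Setup

/-!
The odd core is trivial, the centralizer of `t` contains no nontrivial normal subgroup unless it
is everything, and `t` lies outside a subgroup of index two.
-/

set_option autoImplicit false

namespace Cfsg.Agent.Grp.TwoSymFour

open Subgroup

variable {G : Type*} [Group G] [Finite G] (c : Config G)

namespace Config

omit [Finite G] in
theorem sq_of_order {x : G} (h : orderOf x = 2) : x * x = 1 := by
  have := pow_orderOf_eq_one x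
  rwa [h, pow_two] at this

/-- Centralizer of an involution meeting an odd normal subgroup trivially: inversion. -/
theorem inverts {O : Subgroup G} [O.Normal] {w : G} (hw : w * w = 1)
    (h : ∀ x ∈ O, w * x = x * w → x = 1) : ∀ x ∈ O, w * x * w⁻¹ = x⁻¹ := by
  intro x hx
  have hfpf : MonoidHom.FixedPointFree (MulAut.conjNormal w : MulAut ↥O) := by
    intro y hy
    have := congrArg Subtype.val hy
    rw [MulAut.conjNormal_apply, mul_inv_eq_iff_eq_mul] at this
    exact Subtype.ext (h y y.2 this)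
  have hinv : Function.Involutive (MulAut.conjNormal w : MulAut ↥O) := by
    intro y
    rw [← MulAut.mul_apply, ← map_mul, hw, map_one, MulAut.one_apply]
  have := congrFun (hfpf.coe_eq_inv_of_involutive hinv) ⟨x, hx⟩
  simpa using congrArg Subtype.val this

include c in
theorem oddCore_eq_bot : Cfsg.oddCore G = ⊥ := by
  haveI : Fact (Nat.Prime 2) := ⟨Nat.prime_two⟩
  haveI := pPrimeCore_isNormal (G := G) (p := 2)
  set O := Cfsg.oddCore G with hO
  haveI : O.Normal := pPrimeCore_isNormal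
  have hcop : (Nat.card O).Coprime 2 := pPrimeCore_coprime
  have hord : ∀ x ∈ O, (orderOf x).Coprime 2 := fun x hx =>
    hcop.coprime_dvd_left (Subgroup.orderOf_dvd_natCard O hx)
  have hz : ∀ x ∈ O, c.z * x = x * c.z → x = 1 := by
    intro x hx hc
    have hxS : x ∈ c.S := by rw [← c.centralizer_z]; exact mem_centralizer_singleton_iff.mpr hc.symm
    have h16 : orderOf x ∣ 2 ^ 4 := by
      have := Subgroup.orderOf_dvd_natCard c.S hxS
      rwa [c.card_S] at this
    have := Nat.Coprime.eq_one_of_dvd ((hord x hx).pow_right 4) h16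
    exact orderOf_eq_one_iff.mp this
  have hconj : ∀ m : M, (∃ a : M, a * z₀ * a⁻¹ = m) → ∀ x ∈ O, c.ι m * x = x * c.ι m → x = 1 := by
    rintro m ⟨a, rfl⟩ x hx hc
    have hy : (c.ι a)⁻¹ * x * c.ι a ∈ O := by
      simpa using (inferInstance : O.Normal).conj_mem x hx (c.ι a)⁻¹
    have := hz _ hy (by
      simp only [map_mul, map_inv] at hc
      calc c.z * ((c.ι a)⁻¹ * x * c.ι a)
          = (c.ι a)⁻¹ * ((c.ι a * c.ι z₀ * (c.ι a)⁻¹) * x) * c.ι a := by group
        _ = (c.ι a)⁻¹ * (x * (c.ι a * c.ι z₀ * (c.ι a)⁻¹)) * c.ι a := by rw [hc]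
        _ = (c.ι a)⁻¹ * x * c.ι a * c.z := by group)
    calc x = c.ι a * ((c.ι a)⁻¹ * x * c.ι a) * (c.ι a)⁻¹ := by group
      _ = 1 := by rw [this]; group
  have hsq : ∀ m : M, m * m = 1 → c.ι m * c.ι m = 1 := fun m h => by rw [← map_mul, h, map_one]
  rw [eq_bot_iff]
  intro x hx
  rw [Subgroup.mem_bot]
  have h1 := inverts (hsq z₀ z_mul_self.1) hz x hx
  have h2 := inverts (hsq e₀ e_mul_self.1) (hconj e₀ conj_four.1) x hx
  have h3 := inverts (hsq (z₀ * e₀) prod_facts.1) (hconj _ conj_four.2.1) x hx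
  have h4 := inverts (hsq e₀ e_mul_self.1) (hconj e₀ conj_four.1) x⁻¹ (inv_mem hx)
  have hx2 : x = x⁻¹ := by
    rw [basic_comm.1, map_mul] at h3
    calc x = (x⁻¹)⁻¹ := (inv_inv x).symm
      _ = c.ι e₀ * x⁻¹ * (c.ι e₀)⁻¹ := h4.symm
      _ = c.ι e₀ * (c.z * x * c.z⁻¹) * (c.ι e₀)⁻¹ := by rw [h1]
      _ = (c.ι e₀ * c.z) * x * (c.ι e₀ * c.z)⁻¹ := by group
      _ = x⁻¹ := h3
  have : orderOf x ∣ 2 := orderOf_dvd_of_pow_eq_one (by
    rw [pow_two]; nth_rw 2 [hx2]; rw [mul_inv_cancel])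
  exact orderOf_eq_one_iff.mp (Nat.Coprime.eq_one_of_dvd (hord x hx) this)

omit [Finite G] in
theorem ι_involution {x : G} (hx : x ∈ c.C) (h2 : orderOf x = 2) :
    ∃ m : M, c.ι m = x ∧ m * m = 1 ∧ m ≠ 1 := by
  obtain ⟨m, rfl⟩ := c.exists_ι hx
  refine ⟨m, rfl, c.ι_injective ?_, ?_⟩
  · rw [map_mul, sq_of_order h2, map_one]
  · rintro rfl
    simp at h2

/-- A nontrivial normal subgroup inside `C(t)` forces `C(t) = G`. -/
theorem eq_top_of_normal_le {N : Subgroup G} [hN : N.Normal] (hle : N ≤ c.C) (hne : N ≠ ⊥) :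
    c.C = ⊤ := by
  haveI : Fact (Nat.Prime 2) := ⟨Nat.prime_two⟩
  have htriv : (∀ g : G, g * c.t * g⁻¹ = c.t) → c.C = ⊤ := fun h => by
    rw [eq_top_iff]
    intro g _
    exact c.mem_C.mpr (mul_inv_eq_iff_eq_mul.mp (h g))
  have h2dvd : 2 ∣ Nat.card N := by
    by_contra hodd
    apply hne
    rw [eq_bot_iff, ← c.oddCore_eq_bot]
    exact le_pPrimeCore hN ((Nat.prime_two.coprime_iff_not_dvd).mpr hodd).symm
  have hconjC : ∀ a m : M, c.ι m ∈ N → c.ι (a * m * a⁻¹) ∈ N := fun a m h => by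
    simpa using hN.conj_mem _ h (c.ι a)
  by_cases hzN : c.z ∈ N
  · -- conjugates of `t` centralize `N`
    apply htriv
    intro g
    set y := g * c.t * g⁻¹ with hy
    have hcomm : ∀ n ∈ N, y * n = n * y := by
      intro n hn
      have hn' : g⁻¹ * n * g ∈ c.C := hle (by simpa using hN.conj_mem n hn g⁻¹)
      have := c.mem_C.mp hn'
      calc y * n = g * (c.t * (g⁻¹ * n * g)) * g⁻¹ := by rw [hy]; group
        _ = g * ((g⁻¹ * n * g) * c.t) * g⁻¹ := by rw [this]
        _ = n * y := by rw [hy]; group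
    have hyS : y ∈ c.S := by
      rw [← c.centralizer_z]; exact mem_centralizer_singleton_iff.mpr (hcomm _ hzN)
    obtain ⟨a, ha⟩ := conj_four.1
    have heN : c.ι e₀ ∈ N := ha ▸ hconjC a z₀ hzN
    obtain ⟨m, hm, hm2, hm1⟩ := c.ι_involution hyS.1 (by
      rw [hy, ← MulAut.conj_apply, MulEquiv.orderOf_eq, c.ht])
    have hz' : m * z₀ = z₀ * m := c.comm_iff.mp (by rw [hm]; exact hcomm _ hzN)
    have he' : m * e₀ = e₀ * m := c.comm_iff.mp (by rw [hm]; exact hcomm _ heN)
    have hty : IsConj c.t y := isConj_iff.mpr ⟨g, rfl⟩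
    rcases four_cases m hm2 hm1 hz' he' with h | ⟨a, h | h⟩
    · rw [← hm, h, c.ι_tau]
    · exact absurd (hty.trans (hm ▸ c.isConj_ι ⟨a, h⟩)) c.not_conj_t_z
    · exact absurd (hty.trans (hm ▸ c.isConj_ι ⟨a, h⟩)) c.not_conj_t_tz
  · -- `t` is the only involution of `N`
    have honly : ∀ x ∈ N, orderOf x = 2 → x = c.t := by
      intro x hx h2
      obtain ⟨m, rfl, hm2, hm1⟩ := c.ι_involution (hle hx) h2
      rcases involution_cases m hm2 hm1 with h | ⟨a, h⟩
      · rw [h, c.ι_tau]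
      exfalso
      have hr := hconjC a m hx
      apply hzN
      rcases h with h | h | h | h <;> rw [h] at hr
      · exact hr
      · obtain ⟨b, hb⟩ := conj_four.2.2.1
        have h1 := hb ▸ hconjC b _ hr
        obtain ⟨d, hd⟩ := conj_four.2.1
        have h3 : c.ι (z₀ * e₀) ∈ N := by
          have := mul_mem hr h1
          rwa [← map_mul, prod_facts.2.1] at this
        have h4 := hconjC d⁻¹ _ h3
        rwa [← hd, show d⁻¹ * (d * z₀ * d⁻¹) * d⁻¹⁻¹ = z₀ by group] at h4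
      · obtain ⟨b, hb⟩ := conj_four.2.2.2.1
        have := mul_mem hr (hb ▸ hconjC b _ hr)
        rwa [← map_mul, prod_facts.2.2.1] at this
      · obtain ⟨b, hb⟩ := conj_four.2.2.2.2
        have := mul_mem hr (hb ▸ hconjC b _ hr)
        rwa [← map_mul, prod_facts.2.2.2] at this
    obtain ⟨⟨x, hx⟩, hxo⟩ := exists_prime_orderOf_dvd_card' (G := N) 2 h2dvd
    rw [Subgroup.orderOf_mk] at hxo
    have htN : c.t ∈ N := honly x hx hxo ▸ hx
    exact htriv fun g => honly _ (hN.conj_mem _ htN g) (by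
      rw [← MulAut.conj_apply, MulEquiv.orderOf_eq, c.ht])

/-- A subgroup of index two in `S` without conjugates of `t`, cut out by a character. -/
theorem exists_index_two_aux (χ : M →* ℤˣ) (hτ : χ τ ≠ 1)
    (hcard : Fintype.card {x : M // x * z₀ = z₀ * x ∧ χ x = 1} = 8)
    (hno : ∀ x : M, x * x = 1 → x ≠ 1 → χ x = 1 → ¬ IsConj c.t (c.ι x)) :
    ∃ K : Subgroup G, K.index = 2 ∧ c.t ∉ K ∧ c.z ∈ K := by
  classical
  set R : Subgroup G := (Subgroup.centralizer ({z₀} : Set M) ⊓ χ.ker).map c.ι with hR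
  have hRcard : Nat.card R = 8 := by
    rw [hR, Subgroup.card_map_of_injective c.ι_injective, ← hcard, ← Nat.card_eq_fintype_card]
    exact Nat.card_congr (Equiv.subtypeEquivRight fun x => by
      simp [Subgroup.mem_centralizer_singleton_iff])
  have hfix : ∀ x : G, x⁻¹ * c.t * x ∉ R := by
    intro x hx
    obtain ⟨m, ⟨-, hm⟩, hm'⟩ := hx
    have h2 : orderOf (x⁻¹ * c.t * x) = 2 := by
      rw [← MulAut.conj_symm_apply, MulEquiv.orderOf_eq, c.ht]
    have hm2 : m * m = 1 ∧ m ≠ 1 := by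
      refine ⟨c.ι_injective ?_, ?_⟩
      · rw [map_mul, hm', sq_of_order h2, map_one]
      · rintro rfl
        rw [← hm', map_one, orderOf_one] at h2
        omega
    exact hno m hm2.1 hm2.2 hm (hm' ▸ isConj_iff.mpr ⟨x⁻¹, by rw [inv_inv]⟩)
  haveI := Fintype.ofFinite (G ⧸ R)
  set ψ : G →* ℤˣ := Equiv.Perm.sign.comp (MulAction.toPermHom G (G ⧸ R)) with hψ
  have hindex : ∃ k, Odd k ∧ R.index = 2 * k := by
    refine ⟨c.S.index, ?_, ?_⟩
    · haveI : Fact (Nat.Prime 2) := ⟨Nat.prime_two⟩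
      rw [Nat.odd_iff, ← Nat.two_dvd_ne_zero, ← c.coe_sylow]
      exact c.sylow.not_dvd_index
    · have h1 := Subgroup.card_mul_index R
      have h3 := Subgroup.card_mul_index c.S
      rw [hRcard] at h1
      rw [c.card_S] at h3
      omega
  have hψt : ψ c.t = -1 := by
    have hσ : (MulAction.toPermHom G (G ⧸ R) c.t) ^ 2 = 1 := by
      rw [pow_two, ← map_mul, sq_of_order c.ht, map_one]
    rw [hψ, MonoidHom.comp_apply, Equiv.Perm.sign_of_pow_two_eq_one hσ]
    have h0 : Fintype.card (Function.fixedPoints (MulAction.toPermHom G (G ⧸ R) c.t)) = 0 := by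
      rw [Fintype.card_eq_zero_iff]
      refine ⟨fun ⟨q, hq⟩ => ?_⟩
      obtain ⟨x, rfl⟩ := QuotientGroup.mk_surjective q
      have hq' : c.t • (QuotientGroup.mk x : G ⧸ R) = QuotientGroup.mk x := hq
      rw [MulAction.Quotient.smul_mk, eq_comm, QuotientGroup.eq, smul_eq_mul, ← mul_assoc] at hq'
      exact hfix x hq'
    obtain ⟨k, hk, hk'⟩ := hindex
    rw [h0, ← Nat.card_eq_fintype_card, ← Subgroup.index_eq_card, hk', Nat.sub_zero,
      Nat.mul_div_cancel_left _ two_pos, hk.neg_one_pow]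
  refine ⟨ψ.ker, ?_, ?_, ?_⟩
  · rw [Subgroup.index_ker, MonoidHom.range_eq_top.mpr ?_]
    · simp [Nat.card_eq_fintype_card]
    · intro u
      rcases Int.units_eq_one_or u with rfl | rfl
      exacts [⟨1, map_one ψ⟩, ⟨c.t, hψt⟩]
  · rw [MonoidHom.mem_ker, hψt]; decide
  · obtain ⟨a, -, b, -, hab⟩ := commutator_z
    rw [MonoidHom.mem_ker, Config.z, ← hab]
    simp only [map_mul, map_inv]
    rw [mul_comm (ψ (c.ι a)), mul_inv_cancel_right, mul_inv_cancel]

theorem exists_index_two : ∃ K : Subgroup G, K.index = 2 ∧ c.t ∉ K ∧ c.z ∈ K := by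
  by_cases hf : IsConj c.t (c.ι f₀)
  · refine c.exists_index_two_aux bothSign bothSign_tau card_bothSign fun x h2 h1 h hc => ?_
    obtain ⟨a, ha | ha⟩ := bothSign_cases x h2 h1 h
    · exact c.not_conj_t_z (hc.trans (c.isConj_ι ⟨a, ha⟩))
    · exact c.not_both ⟨hf, hc.trans (c.isConj_ι ⟨a, ha⟩)⟩
  · refine c.exists_index_two_aux fstSign fstSign_tau card_fstSign fun x h2 h1 h hc => ?_
    obtain ⟨a, ha | ha⟩ := fstSign_cases x h2 h1 h
    · exact c.not_conj_t_z (hc.trans (c.isConj_ι ⟨a, ha⟩))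
    · exact hf (hc.trans (c.isConj_ι ⟨a, ha⟩))

end Config

end Cfsg.Agent.Grp.TwoSymFour
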