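import Mathlib

/-!
Finite computations in the group `Z₂ × S₄`.
-/

set_option autoImplicit false
set_option maxRecDepth 100000
set_option synthInstance.maxSize 4000
set_option synthInstance.maxHeartbeats 400000

namespace Cfsg.Agent.Grp.TwoSymFour

open Equiv

/-- The group `Z₂ × S₄`. -/
abbrev M : Type := Multiplicative (ZMod 2) × Perm (Fin 4)

/-- The central involution. -/
def τ : M := (Multiplicative.ofAdd 1, 1)
/-- A double transposition. -/
def z₀ : M := (1, swap 0 2 * swap 1 3)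
/-- Another double transposition. -/
def e₀ : M := (1, swap 0 1 * swap 2 3)
/-- A transposition centralizing `z₀`. -/
def f₀ : M := (1, swap 0 2)

theorem central_eq : ∀ x : M, (∀ y : M, x * y = y * x) → x ≠ 1 → x = τ := by decide +kernel

theorem tau_comm : ∀ y : M, τ * y = y * τ := by decide +kernel

theorem involution_cases : ∀ x : M, x * x = 1 → x ≠ 1 →
    x = τ ∨ ∃ c : M, c * x * c⁻¹ = z₀ ∨ c * x * c⁻¹ = τ * z₀ ∨ c * x * c⁻¹ = f₀ ∨
      c * x * c⁻¹ = τ * f₀ := by decide +kernel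

theorem four_cases : ∀ x : M, x * x = 1 → x ≠ 1 → x * z₀ = z₀ * x → x * e₀ = e₀ * x →
    x = τ ∨ ∃ c : M, c * x * c⁻¹ = z₀ ∨ c * x * c⁻¹ = τ * z₀ := by decide +kernel

theorem conj_four : (∃ c : M, c * z₀ * c⁻¹ = e₀) ∧ (∃ c : M, c * z₀ * c⁻¹ = z₀ * e₀) ∧
    (∃ c : M, c * (τ * z₀) * c⁻¹ = τ * e₀) ∧
    (∃ c : M, c * f₀ * c⁻¹ = f₀ * z₀) ∧ (∃ c : M, c * (τ * f₀) * c⁻¹ = τ * f₀ * z₀) := by
  decide +kernel

theorem commutator_cases : ∀ a : M, a * z₀ = z₀ * a → ∀ b : M, b * z₀ = z₀ * b →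
    a * b * a⁻¹ * b⁻¹ = 1 ∨ a * b * a⁻¹ * b⁻¹ = z₀ := by decide +kernel

theorem commutator_z : ∃ a : M, a * z₀ = z₀ * a ∧ ∃ b : M, b * z₀ = z₀ * b ∧
    a * b * a⁻¹ * b⁻¹ = z₀ := by decide +kernel

theorem card_M : Fintype.card M = 48 := by decide +kernel

theorem card_sylow : Fintype.card {x : M // x * z₀ = z₀ * x} = 16 := by decide +kernel

theorem eight_cases : ∀ x : M, x * z₀ = z₀ * x → x * f₀ = f₀ * x →
    x = 1 ∨ x = τ ∨ x = z₀ ∨ x = τ * z₀ ∨ x = f₀ ∨ x = τ * f₀ ∨ x = f₀ * z₀ ∨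
      x = τ * f₀ * z₀ := by decide +kernel

theorem card_eight : Fintype.card {x : M // x * z₀ = z₀ * x ∧ x * f₀ = f₀ * x} = 8 := by
  decide +kernel

/-- The map `Z₂ → ℤˣ`. -/
def fstSign : M →* ℤˣ where
  toFun x := if x.1 = 1 then 1 else -1
  map_one' := by decide +kernel
  map_mul' := by decide +kernel

/-- The product of the two sign characters. -/
def bothSign : M →* ℤˣ := fstSign * Perm.sign.comp (MonoidHom.snd _ _)

theorem fstSign_tau : fstSign τ ≠ 1 := by decide +kernel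

theorem bothSign_tau : bothSign τ ≠ 1 := by decide +kernel

theorem fstSign_cases : ∀ x : M, x * x = 1 → x ≠ 1 → fstSign x = 1 →
    ∃ c : M, c * x * c⁻¹ = z₀ ∨ c * x * c⁻¹ = f₀ := by decide +kernel

theorem bothSign_cases : ∀ x : M, x * x = 1 → x ≠ 1 → bothSign x = 1 →
    ∃ c : M, c * x * c⁻¹ = z₀ ∨ c * x * c⁻¹ = τ * f₀ := by decide +kernel

theorem card_fstSign : Fintype.card {x : M // x * z₀ = z₀ * x ∧ fstSign x = 1} = 8 := by
  decide +kernel

theorem card_bothSign : Fintype.card {x : M // x * z₀ = z₀ * x ∧ bothSign x = 1} = 8 := by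
  decide +kernel

theorem snd_eq_one : ∀ x : M, x.2 = 1 → x = 1 ∨ x = τ := by decide +kernel

theorem card_f_class : (Finset.univ.image fun c : M => c * f₀ * c⁻¹).card = 6 := by decide +kernel

theorem card_tf_class : (Finset.univ.image fun c : M => c * (τ * f₀) * c⁻¹).card = 6 := by
  decide +kernel

theorem order_three : ∃ y : M, y * y * y = 1 ∧ y ≠ 1 := by decide +kernel

/-- The dihedral group of order eight inside `S₄`. -/
def dihedralHom : DihedralGroup 4 →* Perm (Fin 4) where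
  toFun
    | .r i => (finRotate 4) ^ i.val
    | .sr i => swap 0 2 * (finRotate 4) ^ i.val
  map_one' := by decide +kernel
  map_mul' := by decide +kernel

theorem dihedralHom_injective : Function.Injective dihedralHom := by
  unfold Function.Injective
  decide +kernel

theorem dihedralHom_range : ∀ σ : Perm (Fin 4), σ * z₀.2 = z₀.2 * σ → ∃ x, dihedralHom x = σ := by
  decide +kernel

theorem dihedralHom_comm : ∀ x, dihedralHom x * z₀.2 = z₀.2 * dihedralHom x := by decide +kernel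

theorem tau_mul_self : τ * τ = 1 ∧ τ ≠ 1 := by decide +kernel

theorem z_mul_self : z₀ * z₀ = 1 ∧ z₀ ≠ 1 := by decide +kernel

theorem e_mul_self : e₀ * e₀ = 1 ∧ e₀ ≠ 1 := by decide +kernel

theorem f_mul_self : f₀ * f₀ = 1 ∧ f₀ ≠ 1 := by decide +kernel

theorem basic_comm : z₀ * e₀ = e₀ * z₀ ∧ z₀ * f₀ = f₀ * z₀ := by decide +kernel

theorem tz_facts : τ * z₀ * z₀ = z₀ * (τ * z₀) ∧ τ * z₀ * f₀ = f₀ * (τ * z₀) ∧ τ * z₀ ≠ 1 := by
  decide +kernel

theorem prod_facts : (z₀ * e₀) * (z₀ * e₀) = 1 ∧ τ * z₀ * (τ * e₀) = z₀ * e₀ ∧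
    f₀ * (f₀ * z₀) = z₀ ∧ τ * f₀ * (τ * f₀ * z₀) = z₀ := by
  decide +kernel

theorem f_ne_tau : f₀ ≠ τ ∧ τ * f₀ ≠ τ := by decide +kernel

end Cfsg.Agent.Grp.TwoSymFour
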