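import Mathlib
import Cfsg.Prelude.Def_CaseTheorems
import Cfsg.Agent.Lib.Grp.Cores
import Cfsg.Agent.Lib.Grp.TwoSymFour.Model

/-!
An involution `t`, central in a Sylow 2-subgroup, with centralizer `Z₂ × S₄`, such that every
Sylow 2-subgroup is the centralizer of its derived subgroup: Sylow structure and fusion.
-/

set_option autoImplicit false

namespace Cfsg.Agent.Grp.TwoSymFour

open Subgroup

/-- The hypotheses. -/
structure Config (G : Type*) [Group G] where
  t : G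
  ht : orderOf t = 2
  T : Sylow 2 G
  htc : ∀ s ∈ (T : Subgroup G), s * t = t * s
  e : ↥(Subgroup.centralizer ({t} : Set G)) ≃* M
  h2 : ∀ S : Sylow 2 G,
    Subgroup.centralizer ((⁅(S : Subgroup G), (S : Subgroup G)⁆ : Subgroup G) : Set G) = (S : Subgroup G)

variable {G : Type*} [Group G] (c : Config G)

namespace Config

/-- The centralizer of `t`. -/
abbrev C : Subgroup G := Subgroup.centralizer ({c.t} : Set G)

/-- The embedding of the model. -/
def ι : M →* G := c.C.subtype.comp c.e.symm.toMonoidHom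

theorem ι_injective : Function.Injective c.ι :=
  Subtype.val_injective.comp c.e.symm.injective

theorem ι_mem (m : M) : c.ι m ∈ c.C := (c.e.symm m).2

theorem exists_ι {x : G} (hx : x ∈ c.C) : ∃ m, c.ι m = x :=
  ⟨c.e ⟨x, hx⟩, by simp [ι]⟩

theorem mem_C {x : G} : x ∈ c.C ↔ x * c.t = c.t * x := mem_centralizer_singleton_iff

theorem ι_tau : c.ι τ = c.t := by
  have htC : c.t ∈ c.C := c.mem_C.mpr rfl
  obtain ⟨m, hm⟩ := c.exists_ι htC
  have : m = τ := by
    refine central_eq m (fun y => c.ι_injective ?_) ?_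
    · rw [map_mul, map_mul, hm]
      exact (c.mem_C.mp (c.ι_mem y)).symm
    · rintro rfl
      rw [map_one] at hm
      have := c.ht
      rw [← hm, orderOf_one] at this
      omega
  rw [← this, hm]

theorem comm_iff {m n : M} : c.ι m * c.ι n = c.ι n * c.ι m ↔ m * n = n * m := by
  rw [← map_mul, ← map_mul]; exact c.ι_injective.eq_iff

/-- The element `z`. -/
abbrev z : G := c.ι z₀

/-- The subgroup `C(t) ∩ C(z)`. -/
abbrev S : Subgroup G := c.C ⊓ Subgroup.centralizer ({c.z} : Set G)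

theorem mem_S {x : G} : x ∈ c.S ↔ ∃ m : M, m * z₀ = z₀ * m ∧ c.ι m = x := by
  constructor
  · rintro ⟨hxC, hxz⟩
    obtain ⟨m, rfl⟩ := c.exists_ι hxC
    exact ⟨m, c.comm_iff.mp (mem_centralizer_singleton_iff.mp hxz), rfl⟩
  · rintro ⟨m, hm, rfl⟩
    exact ⟨c.ι_mem m, mem_centralizer_singleton_iff.mpr (c.comm_iff.mpr hm)⟩

theorem card_C : Nat.card c.C = 48 := by
  rw [Nat.card_congr c.e.toEquiv, Nat.card_eq_fintype_card, card_M]

theorem card_S : Nat.card c.S = 16 := by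
  rw [← card_sylow, ← Nat.card_eq_fintype_card]
  refine (Nat.card_congr (Equiv.ofBijective
    (fun m : {x : M // x * z₀ = z₀ * x} => (⟨c.ι m.1, c.mem_S.mpr ⟨m.1, m.2, rfl⟩⟩ : c.S)) ?_)).symm
  constructor
  · exact fun a b h => Subtype.ext (c.ι_injective (congrArg (fun x : c.S => (x : G)) h))
  · rintro ⟨x, hx⟩
    obtain ⟨m, hm, rfl⟩ := c.mem_S.mp hx
    exact ⟨⟨m, hm⟩, rfl⟩

variable [Finite G]

theorem card_T : Nat.card (c.T : Subgroup G) = 16 := by
  haveI : Fact (Nat.Prime 2) := ⟨Nat.prime_two⟩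
  have hTC : (c.T : Subgroup G) ≤ c.C := fun s hs => c.mem_C.mpr (c.htc s hs)
  obtain ⟨P, hP⟩ := (IsPGroup.of_card (n := 4) (by rw [c.card_S]; rfl) :
    IsPGroup 2 c.S).exists_le_sylow
  have h1 : Nat.card (P : Subgroup G) = Nat.card (c.T : Subgroup G) := by
    rw [P.card_eq_multiplicity, c.T.card_eq_multiplicity]
  have h16 := Subgroup.card_le_of_le hP
  rw [c.card_S, h1] at h16
  obtain ⟨n, hn⟩ := IsPGroup.iff_card.mp c.T.isPGroup'
  have h48 : 2 ^ n ∣ 48 := by rw [← hn, ← c.card_C]; exact Subgroup.card_dvd_of_le hTC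
  rw [hn] at h16 ⊢
  have : n < 5 := by
    by_contra h
    have h32 : 2 ^ 5 ∣ 48 := (pow_dvd_pow 2 (not_lt.mp h)).trans h48
    norm_num at h32
  interval_cases n <;> omega

/-- `C(t) ∩ C(z)` as a Sylow subgroup. -/
noncomputable def sylow : Sylow 2 G :=
  haveI : Fact (Nat.Prime 2) := ⟨Nat.prime_two⟩
  Sylow.ofCard c.S (by rw [c.card_S, ← c.card_T, c.T.card_eq_multiplicity])

theorem coe_sylow : (c.sylow : Subgroup G) = c.S := by
  haveI : Fact (Nat.Prime 2) := ⟨Nat.prime_two⟩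
  simp [sylow]

theorem coe_sylow_set : (c.sylow : Set G) = (c.S : Set G) := by
  rw [← c.coe_sylow]; rfl

theorem commutator_le : ⁅c.S, c.S⁆ ≤ Subgroup.zpowers c.z := by
  rw [Subgroup.commutator_le]
  intro x hx y hy
  obtain ⟨a, ha, rfl⟩ := c.mem_S.mp hx
  obtain ⟨b, hb, rfl⟩ := c.mem_S.mp hy
  rw [commutatorElement_def, ← map_inv, ← map_inv, ← map_mul, ← map_mul, ← map_mul]
  rcases commutator_cases a ha b hb with h | h <;> rw [h]
  · rw [map_one]; exact one_mem _
  · exact Subgroup.mem_zpowers _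

theorem centralizer_z : Subgroup.centralizer ({c.z} : Set G) = c.S := by
  refine le_antisymm ?_ inf_le_right
  conv_rhs => rw [← c.coe_sylow, ← c.h2 c.sylow, c.coe_sylow]
  intro x hx
  rw [mem_centralizer_iff]
  intro y hy
  obtain ⟨k, rfl⟩ := mem_zpowers_iff.mp (c.commutator_le hy)
  exact ((show Commute x c.z from mem_centralizer_singleton_iff.mp hx).zpow_right k).symm

theorem normalizer_S : Subgroup.normalizer (c.S : Set G) = c.S := by
  refine le_antisymm ?_ Subgroup.le_normalizer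
  intro n hn
  obtain ⟨a, ha, b, hb, hab⟩ := commutator_z
  have hA := (Subgroup.mem_normalizer_iff.mp hn _).mp (c.mem_S.mpr ⟨a, ha, rfl⟩)
  have hB := (Subgroup.mem_normalizer_iff.mp hn _).mp (c.mem_S.mpr ⟨b, hb, rfl⟩)
  obtain ⟨a', ha', hA'⟩ := c.mem_S.mp hA
  obtain ⟨b', hb', hB'⟩ := c.mem_S.mp hB
  have hzn : n * c.z * n⁻¹ = c.ι (a' * b' * a'⁻¹ * b'⁻¹) := by
    rw [map_mul, map_mul, map_mul, map_inv, map_inv, hA', hB', Config.z, ← hab]
    simp only [map_mul, map_inv]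
    group
  rcases commutator_cases a' ha' b' hb' with h | h
  · rw [h, map_one, conj_eq_one_iff] at hzn
    exact absurd (c.ι_injective (hzn.trans (map_one c.ι).symm)) z_mul_self.2
  · rw [h, mul_inv_eq_iff_eq_mul] at hzn
    rw [← c.centralizer_z]
    exact mem_centralizer_singleton_iff.mpr hzn

theorem mem_centralizer_S {m : M} (h : ∀ a : M, a * z₀ = z₀ * a → a * m = m * a) :
    c.ι m ∈ Subgroup.centralizer (c.S : Set G) := by
  rw [mem_centralizer_iff]
  intro y hy
  obtain ⟨a, ha, rfl⟩ := c.mem_S.mp hy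
  exact c.comm_iff.mpr (h a ha)

/-- The three central involutions of `S` are pairwise non-conjugate in `G`. -/
theorem eq_of_isConj {m n : M} (hm : ∀ a : M, a * z₀ = z₀ * a → a * m = m * a)
    (hn : ∀ a : M, a * z₀ = z₀ * a → a * n = n * a) (hmn : IsConj (c.ι m) (c.ι n)) : m = n := by
  haveI : Fact (Nat.Prime 2) := ⟨Nat.prime_two⟩
  obtain ⟨g, hg⟩ := isConj_iff.mp hmn
  have h := Sylow.conj_eq_normalizer_conj_of_mem_centralizer c.sylow (c.ι m) g⁻¹
    (by rw [c.coe_sylow_set]; exact c.mem_centralizer_S hm)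
    (by rw [inv_inv, hg, c.coe_sylow_set]; exact c.mem_centralizer_S hn)
  obtain ⟨k, hk, hk'⟩ := h
  rw [c.coe_sylow_set, c.normalizer_S] at hk
  rw [inv_inv, hg] at hk'
  obtain ⟨a, ha, rfl⟩ := c.mem_S.mp hk
  rw [mul_assoc, ← c.comm_iff.mpr (hm a ha), inv_mul_cancel_left] at hk'
  exact (c.ι_injective hk').symm

theorem tau_central_S : ∀ a : M, a * z₀ = z₀ * a → a * τ = τ * a := fun a _ => (tau_comm a).symm

theorem z_central_S : ∀ a : M, a * z₀ = z₀ * a → a * z₀ = z₀ * a := fun _ h => h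

theorem tz_central_S : ∀ a : M, a * z₀ = z₀ * a → a * (τ * z₀) = τ * z₀ * a := fun a h => by
  rw [← mul_assoc, ← tau_comm, mul_assoc, h, mul_assoc]

theorem not_conj_t_z : ¬ IsConj c.t c.z := fun h => by
  rw [← c.ι_tau] at h
  exact absurd (c.eq_of_isConj tau_central_S z_central_S h) (by decide +kernel)

theorem not_conj_t_tz : ¬ IsConj c.t (c.ι (τ * z₀)) := fun h => by
  rw [← c.ι_tau] at h
  exact absurd (c.eq_of_isConj tau_central_S tz_central_S h) (by decide +kernel)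

theorem not_conj_z_tz : ¬ IsConj c.z (c.ι (τ * z₀)) := fun h =>
  absurd (c.eq_of_isConj z_central_S tz_central_S h) (by decide +kernel)

omit [Finite G] in
theorem isConj_ι {m n : M} (h : ∃ a : M, a * m * a⁻¹ = n) : IsConj (c.ι m) (c.ι n) := by
  obtain ⟨a, rfl⟩ := h
  rw [isConj_iff]
  exact ⟨c.ι a, by simp⟩

/-- Not both classes of outer involutions of `C(t)` fuse to `t`. -/
theorem not_both : ¬ (IsConj c.t (c.ι f₀) ∧ IsConj c.t (c.ι (τ * f₀))) := by
  rintro ⟨hf, htf⟩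
  haveI : Fact (Nat.Prime 2) := ⟨Nat.prime_two⟩
  set D : Subgroup G := Subgroup.centralizer ({c.ι f₀} : Set G) with hD
  set E : Subgroup G := c.S ⊓ D with hE
  have hEcard : Nat.card E = 8 := by
    rw [← TwoSymFour.card_eight, ← Nat.card_eq_fintype_card]
    refine (Nat.card_congr (Equiv.ofBijective
      (fun m : {x : M // x * z₀ = z₀ * x ∧ x * f₀ = f₀ * x} => (⟨c.ι m.1,
        c.mem_S.mpr ⟨m.1, m.2.1, rfl⟩,
        mem_centralizer_singleton_iff.mpr (c.comm_iff.mpr m.2.2)⟩ : E)) ?_)).symm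
    constructor
    · exact fun a b h => Subtype.ext (c.ι_injective (congrArg (fun x : E => (x : G)) h))
    · rintro ⟨x, hxS, hxD⟩
      obtain ⟨m, hm, rfl⟩ := c.mem_S.mp hxS
      exact ⟨⟨m, hm, c.comm_iff.mp (mem_centralizer_singleton_iff.mp hxD)⟩, rfl⟩
  obtain ⟨g, hg⟩ := isConj_iff.mp hf
  have hDmap : D = c.C.map (MulAut.conj g).toMonoidHom := by
    ext x
    rw [Subgroup.mem_map_equiv, hD, mem_centralizer_singleton_iff, c.mem_C, MulAut.conj_symm_apply,
      ← hg]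
    constructor <;> intro h
    · calc g⁻¹ * x * g * c.t = g⁻¹ * (x * (g * c.t * g⁻¹)) * g := by group
        _ = g⁻¹ * ((g * c.t * g⁻¹) * x) * g := by rw [h]
        _ = c.t * (g⁻¹ * x * g) := by group
    · calc x * (g * c.t * g⁻¹) = g * (g⁻¹ * x * g * c.t) * g⁻¹ := by group
        _ = g * (c.t * (g⁻¹ * x * g)) * g⁻¹ := by rw [h]
        _ = g * c.t * g⁻¹ * x := by group
  have hDcard : Nat.card D = 48 := by
    rw [hDmap, Subgroup.card_map_of_injective (MulAut.conj g).injective, c.card_C]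
  have hEp : IsPGroup 2 (E.subgroupOf D) :=
    IsPGroup.of_card (n := 3) (by rw [Nat.card_congr (Subgroup.subgroupOfEquivOfLe inf_le_right).toEquiv, hEcard]; rfl)
  obtain ⟨Q, hQ⟩ := hEp.exists_le_sylow
  have hQcard : Nat.card (Q : Subgroup D) = 16 := by
    rw [Q.card_eq_multiplicity, hDcard]
    have : Nat.factorization 48 2 = 4 := by
      rw [show (48 : ℕ) = 2 ^ 4 * 3 by rfl, Nat.factorization_mul (by norm_num) (by norm_num),
        Nat.Prime.factorization_pow Nat.prime_two, Nat.Prime.factorization Nat.prime_three]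
      simp
    rw [this]; rfl
  set Q' : Subgroup G := (Q : Subgroup D).map D.subtype with hQ'
  have hQ'card : Nat.card Q' = 16 := by
    rw [hQ', Subgroup.card_map_of_injective D.subtype_injective, hQcard]
  have hEQ : E ≤ Q' := fun x hx => ⟨⟨x, hx.2⟩, hQ (Subgroup.mem_subgroupOf.mpr hx), rfl⟩
  have hQD : Q' ≤ D := Subgroup.map_subtype_le _
  have hidx : E.relIndex Q' = 2 := by
    have := card_mul_relIndex hEQ
    rw [hEcard, hQ'card] at this
    omega
  have hnot : ¬ Q' ≤ E := fun h => by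
    have := Subgroup.card_le_of_le h; omega
  obtain ⟨s, hsQ, hsE⟩ := SetLike.not_le_iff_exists.mp hnot
  have hnorm : ∀ x ∈ E, s * x * s⁻¹ ∈ E := by
    intro x hx
    have hn := Subgroup.normal_of_index_eq_two (H := E.subgroupOf Q') hidx
    exact Subgroup.mem_subgroupOf.mp
      (hn.conj_mem ⟨x, hEQ hx⟩ (Subgroup.mem_subgroupOf.mpr hx) ⟨s, hsQ⟩)
  have hmemE : ∀ m : M, m * z₀ = z₀ * m → m * f₀ = f₀ * m → c.ι m ∈ E := fun m h1 h2 =>
    ⟨c.mem_S.mpr ⟨m, h1, rfl⟩, mem_centralizer_singleton_iff.mpr (c.comm_iff.mpr h2)⟩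
  -- the element `s` fixes `z` and `tz`
  have hfix : ∀ m : M, m * z₀ = z₀ * m → m * f₀ = f₀ * m → m ≠ 1 →
      (m = z₀ ∨ m = τ * z₀) → s * c.ι m * s⁻¹ = c.ι m := by
    intro m h1 h2 hm1 hm
    obtain ⟨n, hn1, hn⟩ := c.mem_S.mp (hnorm _ (hmemE m h1 h2)).1
    have hn2 : n * f₀ = f₀ * n := c.comm_iff.mp (by
      rw [hn]; exact mem_centralizer_singleton_iff.mp (hnorm _ (hmemE m h1 h2)).2)
    have hc : IsConj (c.ι m) (c.ι n) := isConj_iff.mpr ⟨s, hn.symm⟩
    have hnt : ∀ k : M, IsConj c.t (c.ι k) → n ≠ k := by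
      rintro k hk rfl
      rcases hm with rfl | rfl
      · exact c.not_conj_t_z (hk.trans hc.symm)
      · exact c.not_conj_t_tz (hk.trans hc.symm)
    rcases eight_cases n hn1 hn2 with h | h | h | h | h | h | h | h
    · rw [h, map_one] at hn
      exact absurd (c.ι_injective ((conj_eq_one_iff.mp hn.symm).trans (map_one c.ι).symm)) hm1
    · exact absurd h (hnt τ (by rw [c.ι_tau]))
    · rcases hm with rfl | rfl
      · rw [← hn, h]
      · exact absurd (h ▸ hc).symm c.not_conj_z_tz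
    · rcases hm with rfl | rfl
      · exact absurd (h ▸ hc) c.not_conj_z_tz
      · rw [← hn, h]
    · exact absurd h (hnt _ hf)
    · exact absurd h (hnt _ htf)
    · exact absurd h (hnt _ (hf.trans (c.isConj_ι conj_four.2.2.2.1)))
    · exact absurd h (hnt _ (htf.trans (c.isConj_ι conj_four.2.2.2.2)))
  have hzfix := hfix z₀ rfl basic_comm.2 z_mul_self.2 (Or.inl rfl)
  have htzfix := hfix (τ * z₀) tz_facts.1 tz_facts.2.1 tz_facts.2.2 (Or.inr rfl)
  have htfix : s * c.t * s⁻¹ = c.t := by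
    have hsplit : c.t = c.ι (τ * z₀) * (c.z)⁻¹ := by
      rw [map_mul, mul_inv_cancel_right, c.ι_tau]
    calc s * c.t * s⁻¹ = (s * c.ι (τ * z₀) * s⁻¹) * (s * c.z * s⁻¹)⁻¹ := by rw [hsplit]; group
      _ = c.t := by rw [htzfix, hzfix, ← hsplit]
  refine hsE ⟨⟨c.mem_C.mpr ?_, mem_centralizer_singleton_iff.mpr ?_⟩, hQD hsQ⟩
  · exact mul_inv_eq_iff_eq_mul.mp htfix
  · exact mul_inv_eq_iff_eq_mul.mp hzfix

end Config

end Cfsg.Agent.Grp.TwoSymFour
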